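import Mathlib
import Cfsg.Prelude.Def_Classical

/-!
# Project P4V = S2460 (helper23): a semisimple class of `PSp₄(F)` whose square covers the group.
Definitions.

`Sp4 F = Matrix.symplecticGroup (Fin 2) F` consists of the matrices `fromBlocks a b c d` over
`Fin 2 ⊕ Fin 2` with `A * J * Aᵀ = J`, `J = fromBlocks 0 (-1) 1 0`.

* `om u v` : the symplectic form on column vectors `V F = Fin 2 ⊕ Fin 2 → F`, normalised so that the
  standard basis `(e₁, e₂, f₁, f₂) = (inl 0, inl 1, inr 0, inr 1)` has `om eᵢ fⱼ = δᵢⱼ`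
  (so `om u v = - u ⬝ᵥ J *ᵥ v`);
* `IsFrame e₁ e₂ f₁ f₂` : a symplectic basis; `frameMat` : the matrix with these columns;
* `amat g e₁ e₂ f₁ f₂` : the `2 × 2` matrix `(om (g eⱼ) fᵢ)ᵢⱼ`, which is the top-left block of
  `h⁻¹ g h` for `h = frameMat e₁ e₂ f₁ f₂`;
* `cmp τ ν = !![0, -ν; 1, τ]` : companion matrix of `t² - τ t + ν`;
  `Good τ ν` : `τ ≠ 0`, `ν ≠ 1`, `t² - τ t + ν` has no root;
* `InSig ν a` : `a = ν • 1`, or `a` is not scalar with `det a = ν²`, `tr a ≠ 2 ν`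
  (= the set of products of two `GL₂`-conjugates of `cmp τ ν` when `Good τ ν`);
* `lvM P = fromBlocks P 0 0 (P⁻¹)ᵀ` (Levi), `qpM s = fromBlocks 1 s 0 1`, `qmM s = fromBlocks 1 0 s 1`
  (the two unipotent radicals, `s` symmetric), and their versions `lvS qpS qmS` in `Sp4 F`;
* `xS τ ν hν = lvS (cmp τ ν)` : the element whose class square covers;
* `Cj x y` : `y` is conjugate to `x`;  `Cov x g` : `g` is a product of two conjugates of `x`.
-/

set_option autoImplicit false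

namespace Cfsg.Agent.Lib.helper23.P4V

open Matrix

universe u

/-- `2 × 2` matrices. -/
abbrev M2 (F : Type u) := Matrix (Fin 2) (Fin 2) F

/-- `4 × 4` matrices in `2 × 2` blocks. -/
abbrev M4 (F : Type u) := Matrix (Fin 2 ⊕ Fin 2) (Fin 2 ⊕ Fin 2) F

/-- column vectors. -/
abbrev V (F : Type u) := Fin 2 ⊕ Fin 2 → F

/-- `Sp₄(F)`. -/
abbrev Sp4 (F : Type u) [Field F] := Matrix.symplecticGroup (Fin 2) F

section Group

variable {G : Type u} [Group G]

/-- `y` is a conjugate of `x`. -/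
def Cj (x y : G) : Prop := ∃ u : G, y = u * x * u⁻¹

/-- `g` is a product of two conjugates of `x`. -/
def Cov (x g : G) : Prop := ∃ u v : G, g = (u * x * u⁻¹) * (v * x * v⁻¹)

end Group

section Field

variable {F : Type u} [Field F]

/-- the symplectic form, `om eᵢ fⱼ = δᵢⱼ` on the standard basis. -/
def om (u v : V F) : F :=
  u (Sum.inl 0) * v (Sum.inr 0) + u (Sum.inl 1) * v (Sum.inr 1)
    - u (Sum.inr 0) * v (Sum.inl 0) - u (Sum.inr 1) * v (Sum.inl 1)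

/-- a symplectic basis `(e₁, e₂, f₁, f₂)`. -/
def IsFrame (e₁ e₂ f₁ f₂ : V F) : Prop :=
  om e₁ e₂ = 0 ∧ om f₁ f₂ = 0 ∧ om e₁ f₁ = 1 ∧ om e₂ f₂ = 1 ∧ om e₁ f₂ = 0 ∧ om e₂ f₁ = 0

/-- the matrix with columns `e₁, e₂, f₁, f₂`. -/
def frameMat (e₁ e₂ f₁ f₂ : V F) : M4 F :=
  Matrix.of fun k j =>
    Sum.elim (fun i : Fin 2 => if i = 0 then e₁ k else e₂ k)
      (fun i : Fin 2 => if i = 0 then f₁ k else f₂ k) j

/-- the matrix `(om (g eⱼ) fᵢ)ᵢⱼ`: the compression of `g` to `⟨e₁, e₂⟩` along `⟨f₁, f₂⟩`. -/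
def amat (g : M4 F) (e₁ e₂ f₁ f₂ : V F) : M2 F :=
  !![om (g *ᵥ e₁) f₁, om (g *ᵥ e₂) f₁; om (g *ᵥ e₁) f₂, om (g *ᵥ e₂) f₂]

/-- companion matrix of `t² - τ t + ν`. -/
def cmp (τ ν : F) : M2 F := !![0, -ν; 1, τ]

/-- the parameters of the class: `t² - τ t + ν` irreducible, `τ ≠ 0`, `ν ≠ 1`. -/
def Good (τ ν : F) : Prop := τ ≠ 0 ∧ ν ≠ 1 ∧ ∀ t : F, t ^ 2 - τ * t + ν ≠ 0

/-- the products of two conjugates of `cmp τ ν` in `GL₂(F)`. -/
def InSig (ν : F) (a : M2 F) : Prop :=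
  a = ν • (1 : M2 F) ∨ (a.det = ν ^ 2 ∧ a.trace ≠ 2 * ν ∧ ¬ ∃ c : F, a = c • (1 : M2 F))

/-- Levi element `diag(P, P⁻ᵀ)`. -/
noncomputable def lvM (P : M2 F) : M4 F := Matrix.fromBlocks P 0 0 (P⁻¹)ᵀ

/-- upper unipotent radical element. -/
def qpM (s : M2 F) : M4 F := Matrix.fromBlocks 1 s 0 1

/-- lower unipotent radical element. -/
def qmM (s : M2 F) : M4 F := Matrix.fromBlocks 1 0 s 1

theorem lvM_mem (P : M2 F) (hP : P.det ≠ 0) : lvM P ∈ Matrix.symplecticGroup (Fin 2) F := by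
  have hu : IsUnit P.det := isUnit_iff_ne_zero.mpr hP
  rw [SymplecticGroup.mem_iff, lvM, Matrix.J, Matrix.fromBlocks_transpose,
    Matrix.fromBlocks_multiply, Matrix.fromBlocks_multiply]
  simp only [Matrix.mul_zero, Matrix.zero_mul, Matrix.mul_one, Matrix.mul_neg, zero_add, add_zero,
    Matrix.transpose_zero, Matrix.transpose_transpose, Matrix.neg_mul, neg_zero]
  rw [Matrix.mul_nonsing_inv P hu, ← Matrix.transpose_mul, Matrix.mul_nonsing_inv P hu,
    Matrix.transpose_one]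

theorem qpM_mem (s : M2 F) (hs : sᵀ = s) : qpM s ∈ Matrix.symplecticGroup (Fin 2) F := by
  rw [SymplecticGroup.mem_iff, qpM, Matrix.J, Matrix.fromBlocks_transpose,
    Matrix.fromBlocks_multiply, Matrix.fromBlocks_multiply]
  simp only [Matrix.mul_zero, Matrix.zero_mul, Matrix.mul_one, Matrix.one_mul, Matrix.mul_neg,
    zero_add, add_zero, Matrix.transpose_zero, Matrix.transpose_one, Matrix.neg_mul, neg_zero, hs]
  rw [add_neg_cancel]

theorem qmM_mem (s : M2 F) (hs : sᵀ = s) : qmM s ∈ Matrix.symplecticGroup (Fin 2) F := by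
  rw [SymplecticGroup.mem_iff, qmM, Matrix.J, Matrix.fromBlocks_transpose,
    Matrix.fromBlocks_multiply, Matrix.fromBlocks_multiply]
  simp only [Matrix.mul_zero, Matrix.zero_mul, Matrix.mul_one, Matrix.one_mul, Matrix.mul_neg,
    zero_add, add_zero, Matrix.transpose_zero, Matrix.transpose_one, hs]
  rw [add_neg_cancel]

/-- Levi element of `Sp₄(F)`. -/
noncomputable def lvS (P : M2 F) (hP : P.det ≠ 0) : Sp4 F := ⟨lvM P, lvM_mem P hP⟩

/-- upper unipotent radical element of `Sp₄(F)`. -/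
def qpS (s : M2 F) (hs : sᵀ = s) : Sp4 F := ⟨qpM s, qpM_mem s hs⟩

/-- lower unipotent radical element of `Sp₄(F)`. -/
def qmS (s : M2 F) (hs : sᵀ = s) : Sp4 F := ⟨qmM s, qmM_mem s hs⟩

theorem det_cmp (τ ν : F) : (cmp τ ν).det = ν := by
  rw [cmp, Matrix.det_fin_two_of]
  ring

theorem trace_cmp (τ ν : F) : (cmp τ ν).trace = τ := by
  rw [cmp, Matrix.trace_fin_two_of]
  ring

theorem Good.nu_ne_zero {τ ν : F} (h : Good τ ν) : ν ≠ 0 := by
  intro h0
  have := h.2.2 0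
  rw [h0] at this
  apply this
  ring

/-- the element whose class square covers `Sp₄(F)` minus its centre. -/
noncomputable def xS (τ ν : F) (hν : ν ≠ 0) : Sp4 F := lvS (cmp τ ν) (by rw [det_cmp]; exact hν)

theorem lvS_coe (P : M2 F) (hP : P.det ≠ 0) : ((lvS P hP : Sp4 F) : M4 F) = lvM P := rfl

theorem qpS_coe (s : M2 F) (hs : sᵀ = s) : ((qpS s hs : Sp4 F) : M4 F) = qpM s := rfl

theorem qmS_coe (s : M2 F) (hs : sᵀ = s) : ((qmS s hs : Sp4 F) : M4 F) = qmM s := rfl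

theorem xS_coe (τ ν : F) (hν : ν ≠ 0) : ((xS τ ν hν : Sp4 F) : M4 F) = lvM (cmp τ ν) := rfl

end Field

end Cfsg.Agent.Lib.helper23.P4V
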