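import Mathlib
import Cfsg.Prelude.Def_Classical
import Cfsg.Agent.Lib.helper23.P4V.Defs
import Cfsg.Agent.Lib.Helper22.P4VC1
import Cfsg.Agent.Lib.Helper22.P4VC2
import Cfsg.Agent.Lib.Helper21.P4VC2B
import Cfsg.Agent.Lib.Helper29.P4VC3B
import Cfsg.Agent.Lib.Helper21.P4VG1
import Cfsg.Agent.Lib.helper15.P4VGRP

/-!
# Project P4V = S2460 (helper23): assemblies C4 (cj_xS) and C5 (cov_of_tl)
-/

set_option autoImplicit false

namespace Cfsg.Agent.Lib.helper23.P4V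

open Matrix

universe u

section Field

variable {F : Type u} [Field F]

/-- **C4** (G1 + C2). -/
theorem cj_xS (τ ν : F) (hG : Good τ ν) (A : M2 F) (hA : A.det ≠ 0) (htr : A.trace = τ)
    (hdet : A.det = ν) : Cj (xS τ ν hG.nu_ne_zero) (lvS A hA) := by
  obtain ⟨P, hP, hM⟩ := conj_cmp τ ν hG.2.2 A htr hdet
  have hc : (cmp τ ν).det ≠ 0 := by rw [det_cmp]; exact hG.nu_ne_zero
  have hPA : (P * cmp τ ν * P⁻¹).det ≠ 0 := by rw [← hM]; exact hA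
  refine ⟨lvS P hP, ?_⟩
  have h1 := lvS_conj P (cmp τ ν) hP hc hPA
  show lvS A hA = lvS P hP * lvS (cmp τ ν) hc * (lvS P hP)⁻¹
  rw [h1]
  apply Subtype.ext
  rw [lvS_coe, lvS_coe, hM]

/-- **C5** (assembly).  C1: `g = qm s * lv (A₁ A₂) * qp t = (qm s * lv A₁) * (lv A₂ * qp t)`; with
`Aᵢ = Pᵢ (cmp τ ν) Pᵢ⁻¹` (G1), `qm s * lv A₁ = lv P₁ * (qm s' * x) * (lv P₁)⁻¹` (C2, C2B), conjugate to `x`
by C3B; the same for `lv A₂ * qp t`. -/
theorem cov_of_tl (τ ν : F) (hG : Good τ ν) (g : Sp4 F) (A₁ A₂ : M2 F) (h1t : A₁.trace = τ)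
    (h1d : A₁.det = ν) (h2t : A₂.trace = τ) (h2d : A₂.det = ν)
    (h : (g : M4 F).toBlocks₁₁ = A₁ * A₂) : Cov (xS τ ν hG.nu_ne_zero) g := by
  have hν := hG.nu_ne_zero
  have hA₁ : A₁.det ≠ 0 := by rw [h1d]; exact hν
  have hA₂ : A₂.det ≠ 0 := by rw [h2d]; exact hν
  have hA₁₂ : (A₁ * A₂).det ≠ 0 := by rw [Matrix.det_mul]; exact mul_ne_zero hA₁ hA₂
  have ha : (g : M4 F).toBlocks₁₁.det ≠ 0 := by rw [h]; exact hA₁₂
  obtain ⟨s, t, hs, ht, hg⟩ := gauss_dec g ha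
  have hlv : lvS (g : M4 F).toBlocks₁₁ ha = lvS A₁ hA₁ * lvS A₂ hA₂ := by
    rw [lvS_mul A₁ A₂ hA₁ hA₂ hA₁₂]
    apply Subtype.ext
    rw [lvS_coe, lvS_coe, h]
  -- the two factors
  have key1 : ∀ (A : M2 F) (hA : A.det ≠ 0), A.trace = τ → A.det = ν →
      Cj (xS τ ν hν) (qmS s hs * lvS A hA) := by
    intro A hA htr hdet
    obtain ⟨P, hP, hM⟩ := conj_cmp τ ν hG.2.2 A htr hdet
    have hc : (cmp τ ν).det ≠ 0 := by rw [det_cmp]; exact hν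
    have hPA : (P * cmp τ ν * P⁻¹).det ≠ 0 := by rw [← hM]; exact hA
    have h1 := lvS_conj P (cmp τ ν) hP hc hPA
    have h2 : lvS A hA = lvS P hP * xS τ ν hν * (lvS P hP)⁻¹ := by
      show lvS A hA = lvS P hP * lvS (cmp τ ν) hc * (lvS P hP)⁻¹
      rw [h1]
      apply Subtype.ext
      rw [lvS_coe, lvS_coe, hM]
    obtain ⟨s', hs', hq⟩ := lv_qm P hP s hs
    have h3 : qmS s hs * lvS A hA = lvS P hP * (qmS s' hs' * xS τ ν hν) * (lvS P hP)⁻¹ := by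
      rw [h2, ← hq]
      group
    rw [h3]
    exact (qm_absorb τ ν hG s' hs').conj _
  have key2 : ∀ (A : M2 F) (hA : A.det ≠ 0), A.trace = τ → A.det = ν →
      Cj (xS τ ν hν) (lvS A hA * qpS t ht) := by
    intro A hA htr hdet
    obtain ⟨P, hP, hM⟩ := conj_cmp τ ν hG.2.2 A htr hdet
    have hc : (cmp τ ν).det ≠ 0 := by rw [det_cmp]; exact hν
    have hPA : (P * cmp τ ν * P⁻¹).det ≠ 0 := by rw [← hM]; exact hA
    have h1 := lvS_conj P (cmp τ ν) hP hc hPA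
    have h2 : lvS A hA = lvS P hP * xS τ ν hν * (lvS P hP)⁻¹ := by
      show lvS A hA = lvS P hP * lvS (cmp τ ν) hc * (lvS P hP)⁻¹
      rw [h1]
      apply Subtype.ext
      rw [lvS_coe, lvS_coe, hM]
    obtain ⟨t', ht', hq⟩ := lv_qp P hP t ht
    have h3 : lvS A hA * qpS t ht = lvS P hP * (xS τ ν hν * qpS t' ht') * (lvS P hP)⁻¹ := by
      rw [h2, ← hq]
      group
    rw [h3]
    exact (qp_absorb τ ν hG t' ht').conj _
  have hfin : g = (qmS s hs * lvS A₁ hA₁) * (lvS A₂ hA₂ * qpS t ht) := by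
    rw [hg, hlv]
    group
  rw [hfin]
  exact Cov.of_mul (key1 A₁ hA₁ h1t h1d) (key2 A₂ hA₂ h2t h2d)

end Field

end Cfsg.Agent.Lib.helper23.P4V
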