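import Mathlib
import Cfsg.Prelude.Def_Classical
import Cfsg.Agent.Lib.helper23.P4V.Defs
import Cfsg.Agent.Lib.Helper20.P4VOM1
import Cfsg.Agent.Lib.Helper20.P4VOM2
import Cfsg.Agent.Lib.Helper9.P4VOM3
import Cfsg.Agent.Lib.Helper20.P4VFR3x
import Cfsg.Agent.Lib.Helper11.P4VFR4
import Cfsg.Agent.Lib.Helper26.P4VFR5
import Cfsg.Agent.Lib.Helper12.P4VI1
import Cfsg.Agent.Lib.Helper13.P4VI2core
import Cfsg.Agent.Lib.Helper13.P4VI3A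
import Cfsg.Agent.Lib.Helper25.P4VI3B
import Cfsg.Agent.Lib.Helper9.P4VII1
import Cfsg.Agent.Lib.Helper9.P4VII2
import Cfsg.Agent.Lib.helper15.P4VII3
import Cfsg.Agent.Lib.helper17.P4VIII

/-!
# Project P4V = S2460 (helper23): assemblies I4 (caseI), II4 (caseII), EF (exists_frame_insig)
-/

set_option autoImplicit false

namespace Cfsg.Agent.Lib.helper23.P4V

open Matrix

universe u

section Field

variable {F : Type u} [Field F]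

/-- **I4** (assembly: FR4 with `e = v`, `f = φ⁻¹ g v`; I2; I3A / I3B; FR5 shear; I1). -/
theorem caseI [Fintype F] (h3 : 3 ≤ Fintype.card F) (ν : F) (hν : ν ≠ 0) (g : M4 F)
    (hg : g ∈ Matrix.symplecticGroup (Fin 2) F) (v : V F) (hφ : om v (g *ᵥ v) ≠ 0) :
    ∃ e₁ e₂ f₁ f₂ : V F, IsFrame e₁ e₂ f₁ f₂ ∧ InSig ν (amat g e₁ e₂ f₁ f₂) := by
  set φ := om v (g *ᵥ v) with hφdef
  have hpair : om v (φ⁻¹ • (g *ᵥ v)) = 1 := by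
    rw [om_smul_right, inv_mul_cancel₀ hφ]
  obtain ⟨e₂, f₂, hfr⟩ := exists_frame_of_pair v (φ⁻¹ • (g *ᵥ v)) hpair
  have hnz := p4vi2_core g v e₂ f₂ hφ hfr (om_mulVec g hg) om_nondeg
    (p4vfr3_h20_frame_expand _ _ _ _ hfr)
  have key : ∃ s₁₁ s₁₂ s₂₂ : F, InSig ν !![-φ * s₁₁, s₁₁ * om (g *ᵥ e₂) v + s₁₂ * om (g *ᵥ e₂) e₂;
      -φ * s₁₂, om (g *ᵥ e₂) f₂ + s₁₂ * om (g *ᵥ e₂) v + s₂₂ * om (g *ᵥ e₂) e₂] := by
    by_cases hκ : om (g *ᵥ e₂) e₂ = 0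
    · have hα : om (g *ᵥ e₂) f₂ ≠ 0 := by
        rcases hnz with h | h
        · exact absurd hκ h
        · exact h
      rw [hκ]
      exact caseI_algB h3 ν hν φ _ _ hφ hα
    · exact caseI_algA h3 ν hν φ _ _ _ hφ hκ
  obtain ⟨s₁₁, s₁₂, s₂₂, hs⟩ := key
  refine ⟨v, e₂, φ⁻¹ • (g *ᵥ v) + s₁₁ • v + s₁₂ • e₂, f₂ + s₁₂ • v + s₂₂ • e₂,
    hfr.shear s₁₁ s₁₂ s₂₂, ?_⟩
  rw [caseI_amat g hg v e₂ f₂ hφ hfr s₁₁ s₁₂ s₂₂]
  exact hs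

/-- **II4** (assembly: II1, II2, II3; `!![0, -2; ν²/2, 0]` is not scalar, has determinant `ν²` and trace
`0 ≠ 2ν`). -/
theorem caseII (h2 : (2 : F) ≠ 0) (ν : F) (hν : ν ≠ 0) (g : M4 F)
    (hg : g ∈ Matrix.symplecticGroup (Fin 2) F) (halt : ∀ v : V F, om v (g *ᵥ v) = 0) (h1 : g ≠ 1)
    (hm1 : g ≠ -1) :
    ∃ e₁ e₂ f₁ f₂ : V F, IsFrame e₁ e₂ f₁ f₂ ∧ InSig ν (amat g e₁ e₂ f₁ f₂) := by
  have hsa := selfadj_of_alt g halt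
  have hsq := sq_of_alt g hg halt
  obtain ⟨p₁, p₂, m₁, m₂, hp₁, hp₂, hm₁, hm₂, hp, hm⟩ := exists_eigen_pairs h2 g hsq hsa h1 hm1
  obtain ⟨e₁, e₂, f₁, f₂, hfr, ha⟩ := caseII_frame h2 ν g hg p₁ p₂ m₁ m₂ hp₁ hp₂ hm₁ hm₂ hp hm
  refine ⟨e₁, e₂, f₁, f₂, hfr, ?_⟩
  rw [ha]
  right
  refine ⟨?_, ?_, ?_⟩
  · rw [Matrix.det_fin_two_of]
    field_simp
    ring
  · rw [Matrix.trace_fin_two_of]
    intro h
    have h' : (2 : F) * ν = 0 := by rw [← h]; ring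
    rcases mul_eq_zero.mp h' with h0 | h0
    · exact h2 h0
    · exact hν h0
  · rintro ⟨c, hc⟩
    have h01 := congrFun (congrFun hc 0) 1
    simp at h01
    exact h2 h01

/-- **EF** (assembly: I4 if some `om v (g v) ≠ 0`; else III if `2 = 0`, II4 if `2 ≠ 0`). -/
theorem exists_frame_insig [Fintype F] (h3 : 3 ≤ Fintype.card F) (ν : F) (hν : ν ≠ 0) (g : M4 F)
    (hg : g ∈ Matrix.symplecticGroup (Fin 2) F) (h1 : g ≠ 1) (hm1 : g ≠ -1) :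
    ∃ e₁ e₂ f₁ f₂ : V F, IsFrame e₁ e₂ f₁ f₂ ∧ InSig ν (amat g e₁ e₂ f₁ f₂) := by
  by_cases hex : ∃ v : V F, om v (g *ᵥ v) ≠ 0
  · obtain ⟨v, hv⟩ := hex
    exact caseI h3 ν hν g hg v hv
  · have halt : ∀ v : V F, om v (g *ᵥ v) = 0 := by
      intro v
      by_contra h
      exact hex ⟨v, h⟩
    by_cases h2 : (2 : F) = 0
    · obtain ⟨e₁, e₂, f₁, f₂, hfr, ha⟩ := caseIII h2 ν g hg halt h1
      exact ⟨e₁, e₂, f₁, f₂, hfr, Or.inl ha⟩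
    · exact caseII h2 ν hν g hg halt h1 hm1

end Field

end Cfsg.Agent.Lib.helper23.P4V
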