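import Mathlib
import Cfsg.Prelude.Def_Classical
import Cfsg.Agent.Lib.helper23.P4V.Defs
import Cfsg.Agent.Lib.helper23.P4V.AsmC
import Cfsg.Agent.Lib.helper23.P4V.AsmI
import Cfsg.Agent.Lib.Helper25.P4VFR1h25
import Cfsg.Agent.Lib.Helper11.P4VFR2
import Cfsg.Agent.Lib.helper17.P4VG4
import Cfsg.Agent.Lib.Helper26.P4VP1h26
import Cfsg.Agent.Lib.helper15.P4VP2
import Cfsg.Agent.Lib.helper15.P4VGRP

/-!
# Project P4V = S2460 (helper23): assemblies P3 (sp4_cov) and MAIN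
-/

set_option autoImplicit false

namespace Cfsg.Agent.Lib.helper23.P4V

open Matrix

universe u

section Field

variable {F : Type u} [Field F]

/-- **P3** (assembly: EF, FR1, FR2, G4, C5, GRP). -/
theorem sp4_cov [Fintype F] (h3 : 3 ≤ Fintype.card F) (τ ν : F) (hG : Good τ ν) (g : Sp4 F)
    (h1 : (g : M4 F) ≠ 1) (hm1 : (g : M4 F) ≠ -1) : Cov (xS τ ν hG.nu_ne_zero) g := by
  have hν := hG.nu_ne_zero
  obtain ⟨e₁, e₂, f₁, f₂, hfr, hsig⟩ := exists_frame_insig h3 ν hν (g : M4 F) g.2 h1 hm1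
  let c : Sp4 F := ⟨frameMat e₁ e₂ f₁ f₂, p4vfr1_h25_frameMat_mem e₁ e₂ f₁ f₂ hfr⟩
  have htl := tl_conj_frame g e₁ e₂ f₁ f₂ hfr c rfl
  obtain ⟨A₁, A₂, h1t, h1d, h2t, h2d, hprod⟩ := insig_prod τ ν hG _ hsig
  have hcov := cov_of_tl τ ν hG (c⁻¹ * g * c) A₁ A₂ h1t h1d h2t h2d (by rw [htl, hprod])
  have := hcov.conj c
  have e : c * (c⁻¹ * g * c) * c⁻¹ = g := by group
  rwa [e] at this

end Field

/-- **MAIN** = S2460 (P1, P2, P3, `Cfsg.Agent.Lib.helper23.P4S.p4sl1_mk_order`). -/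
theorem main {F : Type*} [Field F] [Fintype F] (p : ℕ) [Fact p.Prime] [CharP F p]
    (h3 : 3 ≤ Fintype.card F) :
    ∃ x : Cfsg.PSp 2 F, ¬ p ∣ orderOf x ∧ ∀ g : Cfsg.PSp 2 F, g ≠ 1 →
      ∃ u v : Cfsg.PSp 2 F, g = (u * x * u⁻¹) * (v * x * v⁻¹) := by
  obtain ⟨τ, ν, hG⟩ := exists_good (F := F) h3
  have hν := hG.nu_ne_zero
  refine ⟨(QuotientGroup.mk (xS τ ν hν) : Cfsg.PSp 2 F), ?_, ?_⟩
  · intro hp
    apply order_xS p τ ν hG
    have h1 : ((QuotientGroup.mk (xS τ ν hν) : Cfsg.PSp 2 F)) ^ orderOf (xS τ ν hν) = 1 := by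
      rw [← QuotientGroup.mk_pow, pow_orderOf_eq_one, QuotientGroup.mk_one]
    exact dvd_trans hp (orderOf_dvd_of_pow_eq_one h1)
  · intro g hg
    obtain ⟨g', rfl⟩ := QuotientGroup.mk_surjective g
    have h1 : (g' : M4 F) ≠ 1 := by
      intro h
      apply hg
      have : g' = 1 := Subtype.ext h
      rw [this, QuotientGroup.mk_one]
    have hm1 : (g' : M4 F) ≠ -1 := by
      intro h
      apply hg
      rw [QuotientGroup.eq_one_iff, Subgroup.mem_center_iff]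
      intro k
      apply Subtype.ext
      rw [Submonoid.coe_mul, Submonoid.coe_mul, h, Matrix.mul_neg, Matrix.neg_mul, Matrix.mul_one,
        Matrix.one_mul]
    have hcov := sp4_cov h3 τ ν hG g' h1 hm1
    have := hcov.map (QuotientGroup.mk' (Subgroup.center (Sp4 F)))
    obtain ⟨u, v, huv⟩ := this
    exact ⟨u, v, huv⟩

end Cfsg.Agent.Lib.helper23.P4V
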